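import Mathlib

/-!
# Flat closed subschemes agreeing generically
-/

set_option autoImplicit false
set_option linter.all false
set_option backward.isDefEq.respectTransparency false

universe u

open CategoryTheory CategoryTheory.Limits AlgebraicGeometry TopologicalSpace Opposite

noncomputable section

namespace GrothLib.SpreadIso29

variable {R : Type u} [CommRing R]

/-- The global function of a scheme over `Spec R` given by an element of `R`. -/
def glob {W : Scheme.{u}} (πW : W ⟶ Spec (CommRingCat.of R)) : R →+* Γ(W, ⊤) :=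
  πW.appTop.hom.comp (Scheme.ΓSpecIso (CommRingCat.of R)).inv.hom

theorem preimage_basicOpen {W : Scheme.{u}} (πW : W ⟶ Spec (CommRingCat.of R)) (r : R) :
    πW ⁻¹ᵁ PrimeSpectrum.basicOpen r = W.basicOpen (glob πW r) := by
  rw [← basicOpen_eq_of_affine (R := CommRingCat.of R) r, Scheme.preimage_basicOpen_top]
  rfl

/-- A closed immersion into a scheme flat over a domain which has a retraction over a nonzero locus is an
isomorphism. -/
theorem isIso_of_flat [IsDomain R] {W V : Scheme.{u}} (s : V ⟶ W) [IsClosedImmersion s]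
    (πW : W ⟶ Spec (CommRingCat.of R)) [Flat πW] {r : R} (hr : r ≠ 0)
    (g : W ⟶ V) (hN : (πW ⁻¹ᵁ PrimeSpectrum.basicOpen r).ι ≫ g ≫ s = (πW ⁻¹ᵁ PrimeSpectrum.basicOpen r).ι) :
    IsIso s := by
  refine IsClosedImmersion.isIso_iff_ker_eq_bot.2 (Scheme.IdealSheafData.ext ?_)
  funext Ω
  rw [Scheme.IdealSheafData.ideal_bot, Pi.bot_apply, eq_bot_iff]
  intro x hx
  rw [Scheme.Hom.ker_apply, RingHom.mem_ker] at hx
  let N := πW ⁻¹ᵁ PrimeSpectrum.basicOpen r
  -- vanishing on the locus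
  have h1 : N.ι.app Ω.1 x = 0 := by
    have e : ∀ {f : (N : Scheme.{u}) ⟶ W}, f = N.ι ≫ g ≫ s → f.app Ω.1 x = 0 := by
      rintro f rfl
      have : ((N.ι ≫ g) ≫ s).app Ω.1 x = 0 := by
        rw [Scheme.Hom.comp_app, CommRingCat.comp_apply, hx, map_zero]
      exact this
    exact e hN.symm
  have h2 : W.presheaf.map (homOfLE (inf_le_left : Ω.1 ⊓ N ≤ Ω.1)).op x = 0 := by
    have hle : Ω.1 ⊓ N ≤ N := inf_le_right
    have hmap : N.ι ''ᵁ (N.ι ⁻¹ᵁ Ω.1) = Ω.1 ⊓ N := by
      rw [Scheme.Hom.image_preimage_eq_opensRange_inf, Scheme.Opens.opensRange_ι, inf_comm]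
    rw [Scheme.Opens.ι_app] at h1
    have key : ∀ (O : W.Opens) (hO : O ≤ Ω.1), O = Ω.1 ⊓ N →
        W.presheaf.map (homOfLE hO).op x = 0 → W.presheaf.map (homOfLE (inf_le_left : Ω.1 ⊓ N ≤ Ω.1)).op x = 0 := by
      rintro O hO rfl h; exact h
    exact key _ (hmap.trans_le inf_le_left) hmap h1
  -- torsion
  let ρ : R →+* Γ(W, Ω.1) := (W.presheaf.map (homOfLE le_top).op).hom.comp (glob πW)
  have hflat : ρ.Flat := by
    have h : (πW.appLE ⊤ Ω.1 le_top).hom.Flat := πW.flat_appLE (isAffineOpen_top _) Ω.2 le_top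
    have e2 : ((Scheme.ΓSpecIso (CommRingCat.of R)).inv.hom).Flat :=
      RingHom.Flat.of_bijective (ConcreteCategory.bijective_of_isIso (Scheme.ΓSpecIso (CommRingCat.of R)).inv)
    have e : ρ = (πW.appLE ⊤ Ω.1 le_top).hom.comp (Scheme.ΓSpecIso (CommRingCat.of R)).inv.hom := rfl
    rw [e]
    exact RingHom.Flat.comp e2 h
  letI := ρ.toAlgebra
  haveI : Module.Flat R Γ(W, Ω.1) := hflat
  haveI : Module.IsTorsionFree R Γ(W, Ω.1) := inferInstance
  have hb : W.basicOpen (ρ r) = Ω.1 ⊓ N := by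
    show W.basicOpen (W.presheaf.map (homOfLE le_top).op (glob πW r)) = _
    rw [Scheme.basicOpen_res, ← preimage_basicOpen]
  haveI := Ω.2.isLocalization_basicOpen (ρ r)
  have h3 : algebraMap Γ(W, Ω.1) Γ(W, W.basicOpen (ρ r)) x = 0 := by
    have key : ∀ (O : W.Opens) (hO : O ≤ Ω.1), O = Ω.1 ⊓ N → W.presheaf.map (homOfLE hO).op x = 0 := by
      rintro O hO rfl; exact h2
    exact key _ (W.basicOpen_le _) hb
  obtain ⟨⟨_, n, rfl⟩, hn⟩ := (IsLocalization.map_eq_zero_iff (Submonoid.powers (ρ r)) _ x).1 h3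
  have h4 : r ^ n • x = 0 := by
    rw [Algebra.smul_def]
    show ρ (r ^ n) * x = 0
    rw [map_pow]
    exact hn
  exact (smul_eq_zero.1 h4).resolve_left (pow_ne_zero n hr)

/-- A proper morphism which is an isomorphism over the generic fibre, from a scheme flat over a discrete valuation
ring, is an isomorphism near a point whose local ring is a discrete valuation ring. -/
theorem exists_nhds_isIso [IsDomain R] [IsDiscreteValuationRing R] {C Z : Scheme.{u}}
    (πC : C ⟶ Spec (CommRingCat.of R)) [Flat πC] [LocallyOfFiniteType πC] (g : Z ⟶ C) [IsProper g]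
    [Flat (g ≫ πC)] (ϖ : R) (hϖ : ϖ ≠ 0) (hgen : IsIso (g ∣_ (πC ⁻¹ᵁ (PrimeSpectrum.basicOpen ϖ))))
    (c : C) (hdom : IsDomain (C.presheaf.stalk c)) (hnorm : IsIntegrallyClosed (C.presheaf.stalk c))
    (hdim : ringKrullDim (C.presheaf.stalk c) = 1) :
    ∃ V : C.Opens, c ∈ V ∧ IsIso (g ∣_ V) := by
  haveI := hgen
  let G := πC ⁻¹ᵁ (PrimeSpectrum.basicOpen ϖ)
  by_cases hcG : c ∈ G
  · exact ⟨G, hcG, hgen⟩
  haveI : IsLocallyNoetherian C := LocallyOfFiniteType.isLocallyNoetherian πC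
  let O := (C.presheaf.stalk c : Type u)
  haveI : IsDomain O := hdom
  haveI : IsIntegrallyClosed O := hnorm
  haveI : Ring.KrullDimLE 1 O := Ring.krullDimLE_iff.2 hdim.le
  haveI : Ring.DimensionLEOne O := ⟨fun hp hp' => Ideal.IsPrime.isMaximal_of_ne_bot hp' hp⟩
  haveI : IsNoetherianRing O := inferInstanceAs (IsNoetherianRing (C.presheaf.stalk c))
  haveI : IsLocalRing O := inferInstanceAs (IsLocalRing (C.presheaf.stalk c))
  haveI hD : IsDedekindDomain O := {}
  haveI : IsDiscreteValuationRing O := ((IsDiscreteValuationRing.TFAE O (fun h => by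
    have h1 : ringKrullDim O = 1 := hdim
    rw [ringKrullDim_eq_zero_of_isField h] at h1
    exact zero_ne_one h1)).out 0 2).2 hD
  -- the uniformiser is nonzero in the local ring
  let ρ : R →+* O := (C.presheaf.germ ⊤ c trivial).hom.comp (glob πC)
  have hρ : ρ.Flat := by
    obtain ⟨U, hU, hcU, -⟩ := exists_isAffineOpen_mem_and_subset (show c ∈ (⊤ : C.Opens) from trivial)
    have h : (πC.appLE ⊤ U le_top).hom.Flat := πC.flat_appLE (isAffineOpen_top _) hU le_top
    have e2 : ((Scheme.ΓSpecIso (CommRingCat.of R)).inv.hom).Flat :=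
      RingHom.Flat.of_bijective (ConcreteCategory.bijective_of_isIso (Scheme.ΓSpecIso (CommRingCat.of R)).inv)
    letI := TopCat.Presheaf.algebra_section_stalk C.presheaf (⟨c, hcU⟩ : U)
    haveI := hU.isLocalization_stalk ⟨c, hcU⟩
    have h3 : (C.presheaf.germ U c hcU).hom.Flat := RingHom.flat_algebraMap_iff.2
      (IsLocalization.flat _ (hU.primeIdealOf ⟨c, hcU⟩).asIdeal.primeCompl)
    have e : ρ = (C.presheaf.germ U c hcU).hom.comp ((πC.appLE ⊤ U le_top).hom.comp
        (Scheme.ΓSpecIso (CommRingCat.of R)).inv.hom) := RingHom.ext fun a =>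
      (TopCat.Presheaf.germ_res_apply C.presheaf (homOfLE le_top) c hcU _).symm
    rw [e]
    exact RingHom.Flat.comp (RingHom.Flat.comp e2 h) h3
  have hρ0 : ρ ϖ ≠ 0 := fun h0 => by
    letI := ρ.toAlgebra
    haveI : Module.Flat R O := hρ
    have h1 : ϖ • (1 : O) = 0 := by rw [Algebra.smul_def, mul_one]; exact h0
    exact (smul_eq_zero.1 h1).elim hϖ one_ne_zero
  -- the valuative criterion
  let K := FractionRing O
  let gη := Spec.map (CommRingCat.ofHom (algebraMap O K)) ≫ C.fromSpecStalk c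
  have hgη : Set.range gη ⊆ Set.range G.ι := by
    rw [Scheme.Opens.range_ι]
    rintro _ ⟨t, rfl⟩
    show C.fromSpecStalk c (Spec.map (CommRingCat.ofHom (algebraMap O K)) t) ∈ G
    have ht : Spec.map (CommRingCat.ofHom (algebraMap O K)) t ∈ C.fromSpecStalk c ⁻¹ᵁ G := by
      show _ ∈ C.fromSpecStalk c ⁻¹ᵁ (πC ⁻¹ᵁ PrimeSpectrum.basicOpen ϖ)
      rw [preimage_basicOpen, Scheme.preimage_basicOpen, Scheme.fromSpecStalk_app (show c ∈ (⊤ : C.Opens) from trivial)]
      simp only [CommRingCat.comp_apply]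
      rw [Scheme.basicOpen_res, basicOpen_eq_of_affine]
      refine ⟨trivial, ?_⟩
      show ρ ϖ ∉ Ideal.comap (algebraMap O K) t.asIdeal
      rw [Ideal.eq_bot_of_prime t.asIdeal, Ideal.comap_bot_of_injective _ (IsFractionRing.injective O K)]
      exact hρ0
    exact ht
  let k := IsOpenImmersion.lift G.ι gη hgη ≫ inv (g ∣_ G) ≫ (g ⁻¹ᵁ G).ι
  have hk : k ≫ g = gη := by
    simp only [k, Category.assoc, ← morphismRestrict_ι, IsIso.inv_hom_id_assoc, IsOpenImmersion.lift_fac]
  let sq : ValuativeCommSq g := ⟨O, K, k, C.fromSpecStalk c, ⟨hk⟩⟩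
  have hval : ValuativeCriterion g := by
    have := ‹IsProper g›
    rw [IsProper.eq_valuativeCriterion] at this
    exact this.1.1.1
  obtain ⟨⟨l⟩⟩ := hval.existence sq
  obtain ⟨V, hcV, σ, -, hσ⟩ := spread_out_of_isGermInjective' (sX := 𝟙 C) (sY := g) l.l
    (by rw [Category.comp_id]; exact l.fac_right)
  rw [Category.comp_id] at hσ
  refine ⟨V, hcV, ?_⟩
  -- the section is an isomorphism
  let W := g ⁻¹ᵁ V
  have hσW : Set.range σ ⊆ Set.range W.ι := by
    rw [Scheme.Opens.range_ι]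
    rintro _ ⟨t, rfl⟩
    show g (σ t) ∈ V
    rw [← Scheme.Hom.comp_apply, hσ]
    exact t.2
  let s := IsOpenImmersion.lift W.ι σ hσW
  have hs : s ≫ g ∣_ V = 𝟙 _ := by
    rw [← cancel_mono V.ι, Category.assoc, morphismRestrict_ι, IsOpenImmersion.lift_fac_assoc, hσ, Category.id_comp]
  haveI : IsClosedImmersion s := by
    haveI : IsClosedImmersion (s ≫ g ∣_ V) := by rw [hs]; infer_instance
    exact IsClosedImmersion.of_comp s (g ∣_ V)
  let πW := W.ι ≫ g ≫ πC
  haveI : Flat πW := inferInstance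
  haveI : IsIso s := by
    refine isIso_of_flat s πW hϖ (g ∣_ V) ?_
    let N := πW ⁻¹ᵁ PrimeSpectrum.basicOpen ϖ
    show N.ι ≫ g ∣_ V ≫ s = N.ι
    rw [← cancel_mono W.ι]
    have hr1 : Set.range (N.ι ≫ g ∣_ V ≫ s ≫ W.ι) ⊆ Set.range (g ⁻¹ᵁ G).ι := by
      rw [Scheme.Opens.range_ι]
      rintro _ ⟨t, rfl⟩
      show g _ ∈ G
      rw [← Scheme.Hom.comp_apply]
      simp only [Category.assoc, IsOpenImmersion.lift_fac_assoc, s, hσ, morphismRestrict_ι]
      exact t.2
    have hr2 : Set.range (N.ι ≫ W.ι) ⊆ Set.range (g ⁻¹ᵁ G).ι := by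
      rw [Scheme.Opens.range_ι]
      rintro _ ⟨t, rfl⟩
      exact t.2
    simp only [Category.assoc]
    rw [← IsOpenImmersion.lift_fac _ _ hr1, ← IsOpenImmersion.lift_fac _ _ hr2]
    congr 1
    rw [← cancel_mono (g ∣_ G), ← cancel_mono G.ι]
    simp only [Category.assoc, morphismRestrict_ι, IsOpenImmersion.lift_fac_assoc, s, hσ]
    rfl
  have : g ∣_ V = inv s := IsIso.eq_inv_of_hom_inv_id hs
  rw [this]
  infer_instance

end GrothLib.SpreadIso29
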